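import Groth.Agent.EtStalk.Conservative
import Groth.Prelude.Def_EtBase

/-!
# Monomorphisms, epimorphisms and exactness on stalks of étale sheaves
-/

universe u

open CategoryTheory Limits Opposite AlgebraicGeometry

namespace Groth.Agent.EtStalk

variable {X : Scheme.{u}}

instance : PreservesFilteredColimitsOfSize.{u, u} (forget AddCommGrpCat.{u + 1}) :=
  preservesFilteredColimitsOfSize_shrink.{u, u + 1, u, u + 1} _

instance : AB5OfSize.{u, u} AddCommGrpCat.{u + 1} := AB5OfSize_of_univLE.{u, u, u + 1, u + 1} _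

theorem mono_iff {F G : EtCoh.Ab X} (a : F ⟶ G) : Mono a ↔
    ∀ (Ω : Type u) [Field Ω] [IsSepClosed Ω] (ξ : Spec (CommRingCat.of Ω) ⟶ X),
      Function.Injective ((EtCoh.stalk ξ).map a) := by
  refine ⟨fun h Ω _ _ ξ => (AddCommGrpCat.mono_iff_injective _).mp inferInstance, fun h => ?_⟩
  have : Presheaf.IsLocallyInjective X.smallEtaleTopology a.hom := isLocallyInjective_of_stalk _ h
  exact Sheaf.mono_of_isLocallyInjective a

theorem epi_iff {F G : EtCoh.Ab X} (a : F ⟶ G) : Epi a ↔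
    ∀ (Ω : Type u) [Field Ω] [IsSepClosed Ω] (ξ : Spec (CommRingCat.of Ω) ⟶ X),
      Function.Surjective ((EtCoh.stalk ξ).map a) := by
  refine ⟨fun h Ω _ _ ξ => (AddCommGrpCat.epi_iff_surjective _).mp inferInstance, fun h => ?_⟩
  have : Sheaf.IsLocallySurjective a := isLocallySurjective_of_stalk _ h
  exact inferInstance

theorem isIso_iff {F G : EtCoh.Ab X} (a : F ⟶ G) : IsIso a ↔
    ∀ (Ω : Type u) [Field Ω] [IsSepClosed Ω] (ξ : Spec (CommRingCat.of Ω) ⟶ X),
      IsIso ((EtCoh.stalk ξ).map a) := by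
  refine ⟨fun h Ω _ _ ξ => inferInstance, fun h => ?_⟩
  have hm := (mono_iff a).mpr fun Ω _ _ ξ =>
    ((ConcreteCategory.isIso_iff_bijective _).mp (h Ω ξ)).1
  have he := (epi_iff a).mpr fun Ω _ _ ξ =>
    ((ConcreteCategory.isIso_iff_bijective _).mp (h Ω ξ)).2
  exact isIso_of_mono_of_epi a

/-- Index type of all geometric points. -/
structure GeomPt (X : Scheme.{u}) : Type (u + 1) where
  /-- the field -/
  Ω : Type u
  [fld : Field Ω]
  [sep : IsSepClosed Ω]
  /-- the point -/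
  ξ : Spec (CommRingCat.of Ω) ⟶ X

attribute [instance] GeomPt.fld GeomPt.sep

theorem jointlyReflectIsomorphisms :
    JointlyReflectIsomorphisms (fun p : GeomPt X => EtCoh.stalk p.ξ) where
  isIso a h := (isIso_iff a).mpr fun Ω _ _ ξ => h ⟨Ω, ξ⟩

theorem exact_iff (S : ShortComplex (EtCoh.Ab X)) : S.Exact ↔
    ∀ (Ω : Type u) [Field Ω] [IsSepClosed Ω] (ξ : Spec (CommRingCat.of Ω) ⟶ X),
      (S.map (EtCoh.stalk ξ)).Exact := by
  refine (jointlyReflectIsomorphisms.exact_iff S).trans ?_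
  exact ⟨fun h Ω _ _ ξ => h ⟨Ω, ξ⟩, fun h p => h p.Ω p.ξ⟩

end Groth.Agent.EtStalk
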