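import Groth.Agent.EtStalk.Pullback
import Groth.Prelude.Def_SGA4b
import Mathlib.CategoryTheory.Sites.Sieves

/-!
# Stalks of direct images along closed immersions; inverse image along surjections
-/

universe u

open CategoryTheory Limits Opposite AlgebraicGeometry

namespace Groth.Agent.EtStalk

theorem subsingleton_of_isEmpty {Z : Scheme.{u}} (G : EtCoh.Ab Z) (W : Z.Etale) (hW : IsEmpty W.left) :
    Subsingleton (G.obj.obj (op W)) := by
  have hmem : (⊥ : Sieve W) ∈ Z.smallEtaleTopology W :=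
    mem_of_covers covers_all _ fun Ω _ _ ξ _ x =>
      (hW.false ((x : Over.mk ξ ⟶ (Scheme.Etale.forget Z).obj W).left (default : Spec (CommRingCat.of Ω)))).elim
  refine ⟨fun a b => ?_⟩
  have hs := (isSheaf_iff_isSheaf_of_type _ _).mp
    ((sheafCompose Z.smallEtaleTopology (forget AddCommGrpCat.{u + 1})).obj G).property
  exact (hs (⊥ : Sieve W) hmem).isSeparatedFor.ext fun Y g hg => hg.elim

theorem isZero_stalk_push {Z X : Scheme.{u}} (i : Z ⟶ X) [IsClosedImmersion i] [EtCoh.BCCont i]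
    (G : EtCoh.Ab Z) {Ω : Type u} [Field Ω] [IsSepClosed Ω] (ξ : Spec (CommRingCat.of Ω) ⟶ X)
    (hξ : Disjoint (Set.range ξ.base) (Set.range i.base)) :
    IsZero ((EtCoh.stalk ξ).obj ((EtCoh.push i).obj G)) := by
  have : Subsingleton ((EtCoh.stalk ξ).obj ((EtCoh.push i).obj G)) := by
    refine subsingleton_of_forall_eq 0 fun p => ?_
    obtain ⟨U, x, z, rfl⟩ :=
      (Scheme.pointSmallEtale ξ).toPresheafFiber_jointly_surjective (P := ((EtCoh.push i).obj G).obj) p
    let x' : Over.mk ξ ⟶ (Scheme.Etale.forget X).obj U := x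
    let U₀ : Scheme.{u} := U.left
    let φ : U₀ ⟶ X := U.hom
    let l : Spec (CommRingCat.of Ω) ⟶ U₀ := x'.left
    have hl : l ≫ φ = ξ := Over.w x'
    have hφ : Etale φ := U.prop
    have hopen : IsOpen (φ ⁻¹' (Set.range i)ᶜ) :=
      i.isClosedEmbedding.isClosed_range.isOpen_compl.preimage φ.continuous
    let V : U₀.Opens := ⟨_, hopen⟩
    have hE : Etale (V.ι ≫ φ) := inferInstance
    have hVI : IsOpenImmersion V.ι := inferInstance
    let U' : X.Etale := MorphismProperty.Over.mk ⊤ (V.ι ≫ φ) hE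
    let g : U' ⟶ U := MorphismProperty.Over.homMk V.ι rfl trivial
    have hr : Set.range l ⊆ Set.range V.ι := by
      rintro - ⟨q, rfl⟩
      rw [Scheme.Opens.range_ι]
      show φ (l q) ∈ (Set.range i)ᶜ
      intro hmem
      refine Set.disjoint_left.mp hξ ⟨q, rfl⟩ ?_
      rw [show ξ.base q = φ (l q) by rw [← Scheme.Hom.comp_apply, hl]]
      exact hmem
    let m : Spec (CommRingCat.of Ω) ⟶ (V : Scheme.{u}) := IsOpenImmersion.lift V.ι l hr
    have hm : m ≫ V.ι = l := IsOpenImmersion.lift_fac _ _ _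
    have hm' : m ≫ V.ι ≫ φ = ξ := by rw [← Category.assoc, hm, hl]
    let y : (Scheme.pointSmallEtale ξ).fiber.obj U' :=
      (Over.homMk m hm' : Over.mk ξ ⟶ (Scheme.Etale.forget X).obj U')
    have hy : (Scheme.pointSmallEtale ξ).fiber.map g y = x := Over.OverMorphism.ext hm
    have hW : IsEmpty ((EtCoh.bc i).obj U').left := ⟨fun w => by
      let w' : (pullback U'.hom i : Scheme.{u}) := w
      have h := congrArg (fun k : pullback U'.hom i ⟶ X => k w') (pullback.condition (f := U'.hom) (g := i))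
      rw [Scheme.Hom.comp_apply, Scheme.Hom.comp_apply] at h
      exact ((pullback.fst U'.hom i) w').2 ⟨pullback.snd U'.hom i w', h.symm⟩⟩
    have := subsingleton_of_isEmpty G ((EtCoh.bc i).obj U') hW
    refine Eq.trans ?_ (map_zero ((Scheme.pointSmallEtale ξ).toPresheafFiber U x ((EtCoh.push i).obj G).obj).hom)
    refine ((Scheme.pointSmallEtale ξ).toPresheafFiber_eq_iff' _ _ _ _).mpr ⟨U', g, y, hy, ?_⟩
    exact Subsingleton.elim (α := G.obj.obj (op ((EtCoh.bc i).obj U'))) _ _
  exact AddCommGrpCat.isZero_of_subsingleton _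

section Surjective

variable {X' X : Scheme.{u}} (f : X' ⟶ X)

theorem covers_of_surjective [Surjective f] :
    Covers (X := X) fun Ω _ _ ξ => ∃ ξ' : Spec (CommRingCat.of Ω) ⟶ X', ξ' ≫ f = ξ := by
  intro s
  obtain ⟨s', rfl⟩ := f.surjective s
  obtain ⟨Ω, _, _, ξ', -, hξ'⟩ := covers_all (X := X') s'
  exact ⟨Ω, inferInstance, inferInstance, ξ' ≫ f, ⟨ξ', rfl⟩, by rw [Scheme.Hom.comp_apply, hξ']⟩

/-- The stalk of an inverse image, for sheaves of sets. -/
noncomputable def stalkPullShIso {Ω : Type u} [Field Ω] [IsSepClosed Ω]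
    (ξ : Spec (CommRingCat.of Ω) ⟶ X') :
    (Scheme.pointSmallEtale (ξ ≫ f)).sheafFiber (A := Type (u + 1)) ≅
      EtDesc.pullSh f ⋙ (Scheme.pointSmallEtale ξ).sheafFiber :=
  sheafFiberPullbackIso (EtCoh.bc f) (Scheme.pointSmallEtale (ξ ≫ f)) (Scheme.pointSmallEtale ξ)
    (fiberIso f ξ) (Type (u + 1))

theorem faithful_pullSh [Surjective f] : (EtDesc.pullSh f).Faithful := by
  refine ⟨fun {F G} {a b} h => ?_⟩
  have hgerm : ∀ (Ω : Type u) [Field Ω] [IsSepClosed Ω] (ξ : Spec (CommRingCat.of Ω) ⟶ X),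
      (∃ ξ' : Spec (CommRingCat.of Ω) ⟶ X', ξ' ≫ f = ξ) →
      (Scheme.pointSmallEtale ξ).presheafFiber.map a.hom =
        (Scheme.pointSmallEtale ξ).presheafFiber.map b.hom := by
    rintro Ω _ _ _ ⟨ξ', rfl⟩
    have e := stalkPullShIso f ξ'
    have h1 := congrArg ((Scheme.pointSmallEtale ξ').sheafFiber (A := Type (u + 1))).map h
    have ha := e.hom.naturality a
    have hb := e.hom.naturality b
    rw [Functor.comp_map] at ha hb
    rw [h1, ← hb] at ha
    exact (cancel_mono (e.hom.app G)).mp ha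
  apply Sheaf.hom_ext
  ext U s
  have hG := (isSheaf_iff_isSheaf_of_type _ _).mp G.property
  let S : Sieve U.unop := Presheaf.equalizerSieve (F := G.obj) (X := U) (a.hom.app U s) (b.hom.app U s)
  have hS : S ∈ X.smallEtaleTopology U.unop := by
    refine mem_of_covers (covers_of_surjective f) _ fun Ω _ _ ξ hξ x => ?_
    have h2 : (Scheme.pointSmallEtale ξ).toPresheafFiber U.unop x G.obj (a.hom.app U s) =
        (Scheme.pointSmallEtale ξ).toPresheafFiber U.unop x G.obj (b.hom.app U s) := by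
      have h4 := congrArg (fun m => m ((Scheme.pointSmallEtale ξ).toPresheafFiber U.unop x F.obj s))
        (hgerm Ω ξ hξ)
      simp only [GrothendieckTopology.Point.toPresheafFiber_naturality_apply] at h4
      exact h4
    obtain ⟨Y, g, y, hy, hg⟩ := ((Scheme.pointSmallEtale ξ).toPresheafFiber_eq_iff' _ _ _ _).mp h2
    exact ⟨Y, g, hg, y, hy⟩
  exact (hG S hS).isSeparatedFor.ext fun Y g hg => hg

theorem reflectsIsomorphisms_pullSh [Surjective f] : (EtDesc.pullSh f).ReflectsIsomorphisms := by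
  refine ⟨fun {F G} a _ => ?_⟩
  have key : ∀ (Ω : Type u) [Field Ω] [IsSepClosed Ω] (ξ : Spec (CommRingCat.of Ω) ⟶ X),
      (∃ ξ' : Spec (CommRingCat.of Ω) ⟶ X', ξ' ≫ f = ξ) →
      Function.Bijective ((Scheme.pointSmallEtale ξ).presheafFiber.map a.hom) := by
    rintro Ω _ _ _ ⟨ξ', rfl⟩
    refine (isIso_iff_bijective _).mp ?_
    exact (NatIso.isIso_map_iff (stalkPullShIso f ξ') a).mpr
      (inferInstanceAs (IsIso ((Scheme.pointSmallEtale ξ').sheafFiber.map ((EtDesc.pullSh f).map a))))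
  have : Sheaf.IsLocallyInjective a :=
    isLocallyInjective_of_covers _ (covers_of_surjective f) fun Ω _ _ ξ hξ => (key Ω ξ hξ).1
  have : Sheaf.IsLocallySurjective a :=
    isLocallySurjective_of_covers _ (covers_of_surjective f) fun Ω _ _ ξ hξ => (key Ω ξ hξ).2
  exact (Sheaf.isLocallyBijective_iff_isIso a).mp ⟨inferInstance, inferInstance⟩

end Surjective

end Groth.Agent.EtStalk
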