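import Groth.Agent.EtStalk.Sheaf
import Groth.Prelude.Def_EtBase
import Mathlib.CategoryTheory.Comma.Over.Pullback
import Mathlib.CategoryTheory.Adjunction.Mates

/-!
# Stalks of inverse images
-/

universe w v u

open CategoryTheory Limits Opposite AlgebraicGeometry

namespace Groth.Agent.EtStalk

section General

variable {C D : Type*} [Category* C] [Category* D] {J : GrothendieckTopology C}
  {K : GrothendieckTopology D} (F : C ⥤ D) (Ψ : GrothendieckTopology.Point.{w} J)
  (Φ : GrothendieckTopology.Point.{w} K) (α : F ⋙ Φ.fiber ≅ Ψ.fiber)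
  (A : Type u) [Category.{v} A] [HasProducts.{w} A] [HasColimitsOfSize.{w, w} A]
  [Functor.IsContinuous F J K] [(F.sheafPushforwardContinuous A J K).IsRightAdjoint]

/-- Direct images of skyscraper sheaves are skyscraper sheaves. -/
noncomputable def skyscraperPushIso :
    Φ.skyscraperSheafFunctor ⋙ F.sheafPushforwardContinuous A J K ≅ Ψ.skyscraperSheafFunctor :=
  NatIso.ofComponents (fun M => (fullyFaithfulSheafToPresheaf J A).preimageIso
    (Functor.isoWhiskerRight (NatIso.op α).symm ((piFunctor.{w} (C := A)).obj M)))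
    (fun {M N} g => by
      apply Sheaf.hom_ext
      ext U
      dsimp
      simp [fullyFaithfulSheafToPresheaf]
      exact ((piFunctor.{w} (C := A)).map g).naturality _ |>.symm)

/-- The stalk of an inverse image. -/
noncomputable def sheafFiberPullbackIso : Ψ.sheafFiber ≅ F.sheafPullback A J K ⋙ Φ.sheafFiber :=
  (conjugateIsoEquiv ((F.sheafAdjunctionContinuous A J K).comp Φ.skyscraperSheafAdjunction)
    Ψ.skyscraperSheafAdjunction).symm (skyscraperPushIso F Ψ Φ α A)

end General

variable {X Y : Scheme.{u}} (f : X ⟶ Y) {Ω : Type u} [Field Ω] [IsSepClosed Ω]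
  (ξ : Spec (CommRingCat.of Ω) ⟶ X)

/-- `Spec Ω → X ×_Y U` over `X` is the same as `Spec Ω → U` over `Y`. -/
noncomputable def fiberIso :
    EtCoh.bc f ⋙ (Scheme.pointSmallEtale ξ).fiber ≅ (Scheme.pointSmallEtale (ξ ≫ f)).fiber :=
  NatIso.ofComponents
    (fun U => (((Over.mapPullbackAdj f).homEquiv (Over.mk ξ) ((Scheme.Etale.forget Y).obj U)).symm).toIso)
    (fun {U V} g => by
      ext k
      refine Over.OverMorphism.ext ?_
      change (k.left ≫ _) ≫ pullback.fst V.hom f = (k.left ≫ pullback.fst U.hom f) ≫ g.left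
      exact (Category.assoc _ _ _).trans
        ((congrArg _ (EtCoh.isPullback_bc_map f g).w).trans (Category.assoc _ _ _).symm))

/-- `(f^* G)_ξ ≅ G_{ξ ≫ f}` for abelian sheaves. -/
noncomputable def stalkPullIso [EtCoh.BCCont f] :
    EtCoh.stalk (ξ ≫ f) ≅ EtCoh.pull f ⋙ EtCoh.stalk ξ :=
  sheafFiberPullbackIso (EtCoh.bc f) (Scheme.pointSmallEtale (ξ ≫ f)) (Scheme.pointSmallEtale ξ)
    (fiberIso f ξ) AddCommGrpCat.{u + 1}

end Groth.Agent.EtStalk
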