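import Mathlib.AlgebraicGeometry.Sites.EtalePoint
import Mathlib.CategoryTheory.Sites.Point.Skyscraper
import Mathlib.CategoryTheory.Sites.LocallyBijective
import Mathlib.CategoryTheory.Sites.EpiMono
import Mathlib.CategoryTheory.Functor.ReflectsIso.Exact
import Mathlib.CategoryTheory.Abelian.GrothendieckAxioms.Basic
import Mathlib.Algebra.Category.Grp.FilteredColimits

/-!
# Geometric points detect properties of étale sheaves with values in large categories
-/

universe w' v' u' u

open CategoryTheory Limits Opposite AlgebraicGeometry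

namespace Groth.Agent.EtStalk

variable {X : Scheme.{u}}

/-- A family of geometric points hitting every point of `X`. -/
def Covers (P : ∀ (Ω : Type u) [Field Ω] [IsSepClosed Ω], (Spec (CommRingCat.of Ω) ⟶ X) → Prop) : Prop :=
  ∀ s : X, ∃ (Ω : Type u) (_ : Field Ω) (_ : IsSepClosed Ω) (ξ : Spec (CommRingCat.of Ω) ⟶ X),
    P Ω ξ ∧ ξ default = s

/-- All geometric points form a covering family. -/
theorem covers_all : Covers (X := X) fun _ _ _ _ => True := fun s =>
  ⟨SeparableClosure (X.residueField s), inferInstance, inferInstance,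
    (Scheme.SpecToEquivOfField (SeparableClosure (X.residueField s)) X).symm
      ⟨s, CommRingCat.ofHom (algebraMap (X.residueField s) _)⟩, trivial,
    by simp [Scheme.SpecToEquivOfField]⟩

/-- A sieve in the small étale site is covering when it covers at enough geometric points. -/
theorem mem_of_covers {P : ∀ (Ω : Type u) [Field Ω] [IsSepClosed Ω], (Spec (CommRingCat.of Ω) ⟶ X) → Prop}
    (hP : Covers P) {U : X.Etale} (S : Sieve U)
    (h : ∀ (Ω : Type u) [Field Ω] [IsSepClosed Ω] (ξ : Spec (CommRingCat.of Ω) ⟶ X), P Ω ξ →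
      ∀ x : (Scheme.pointSmallEtale ξ).fiber.obj U, ∃ (Y : X.Etale) (g : Y ⟶ U) (_ : S g)
        (y : (Scheme.pointSmallEtale ξ).fiber.obj Y), (Scheme.pointSmallEtale ξ).fiber.map g y = x) :
    S ∈ X.smallEtaleTopology U := by
  obtain ⟨α, T, f, rfl⟩ := S.exists_eq_ofArrows
  rw [Scheme.ofArrows_mem_smallEtaleTopology_iff]
  ext p
  simp only [Set.mem_iUnion, Set.mem_range, Set.mem_univ, iff_true]
  obtain ⟨Ω, _, _, ξ, hPξ, hξ⟩ := hP (U.hom p)
  obtain ⟨x', hx'⟩ := Scheme.pointSmallEtaleFiberObjToPreimage_surjective ξ hξ U ⟨p, by simp⟩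
  rw [Subtype.ext_iff] at hx'
  simp only [Functor.id_obj, Scheme.pointSmallEtaleFiberObjToPreimage_coe,
    Scheme.Etale.forget_obj_left] at hx'
  obtain ⟨W, g, ⟨Z, q, _, ⟨a⟩, rfl⟩, y, hy⟩ := h Ω ξ hPξ x'
  refine ⟨a, (Scheme.pointSmallEtaleFiberObjToPreimage ξ hξ (y ≫ q.hom)).1, ?_⟩
  refine Eq.trans ?_ hx'
  rw [← hy]
  rfl

variable {A : Type u'} [Category.{v'} A] [HasColimitsOfSize.{u, u} A]
  {FC : A → A → Type*} {CC : A → Type w'} [∀ (M N : A), FunLike (FC M N) (CC M) (CC N)]
  [ConcreteCategory.{w'} A FC] [PreservesFilteredColimitsOfSize.{u, u} (forget A)]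

variable {F G : X.Etaleᵒᵖ ⥤ A} (f : F ⟶ G)

theorem isLocallyInjective_of_covers
    {P : ∀ (Ω : Type u) [Field Ω] [IsSepClosed Ω], (Spec (CommRingCat.of Ω) ⟶ X) → Prop} (hP : Covers P)
    (hf : ∀ (Ω : Type u) [Field Ω] [IsSepClosed Ω] (ξ : Spec (CommRingCat.of Ω) ⟶ X), P Ω ξ →
      Function.Injective ((Scheme.pointSmallEtale ξ).presheafFiber.map f)) :
    Presheaf.IsLocallyInjective X.smallEtaleTopology f := by
  refine ⟨fun {U} a b hab => mem_of_covers hP _ fun Ω _ _ ξ hξ x => ?_⟩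
  have h1 : (Scheme.pointSmallEtale ξ).toPresheafFiber U.unop x F a =
      (Scheme.pointSmallEtale ξ).toPresheafFiber U.unop x F b := by
    apply hf Ω ξ hξ
    rw [GrothendieckTopology.Point.toPresheafFiber_naturality_apply,
      GrothendieckTopology.Point.toPresheafFiber_naturality_apply]
    exact congrArg _ hab
  obtain ⟨Y, g, y, hy, hg⟩ := ((Scheme.pointSmallEtale ξ).toPresheafFiber_eq_iff' _ _ _ _).mp h1
  exact ⟨Y, g, hg, y, hy⟩

theorem isLocallySurjective_of_covers
    {P : ∀ (Ω : Type u) [Field Ω] [IsSepClosed Ω], (Spec (CommRingCat.of Ω) ⟶ X) → Prop} (hP : Covers P)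
    (hf : ∀ (Ω : Type u) [Field Ω] [IsSepClosed Ω] (ξ : Spec (CommRingCat.of Ω) ⟶ X), P Ω ξ →
      Function.Surjective ((Scheme.pointSmallEtale ξ).presheafFiber.map f)) :
    Presheaf.IsLocallySurjective X.smallEtaleTopology f := by
  refine ⟨fun {U} s => mem_of_covers hP _ fun Ω _ _ ξ hξ x => ?_⟩
  obtain ⟨p, hp⟩ := hf Ω ξ hξ ((Scheme.pointSmallEtale ξ).toPresheafFiber U x G s)
  obtain ⟨V, v, t, rfl⟩ := (Scheme.pointSmallEtale ξ).toPresheafFiber_jointly_surjective p
  rw [GrothendieckTopology.Point.toPresheafFiber_naturality_apply] at hp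
  -- refine both germs to a common neighbourhood
  obtain ⟨W, a, b, -⟩ := IsCofilteredOrEmpty.cone_objs
    (Functor.elementsMk (Scheme.pointSmallEtale ξ).fiber V v)
    (Functor.elementsMk (Scheme.pointSmallEtale ξ).fiber U x)
  have h1 : (Scheme.pointSmallEtale ξ).toPresheafFiber W.1 W.2 G (G.map a.1.op (f.app _ t)) =
      (Scheme.pointSmallEtale ξ).toPresheafFiber W.1 W.2 G (G.map b.1.op s) := by
    rw [GrothendieckTopology.Point.toPresheafFiber_w_apply,
      GrothendieckTopology.Point.toPresheafFiber_w_apply, a.2, b.2]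
    exact hp
  obtain ⟨Y, g, y, hy, hg⟩ := ((Scheme.pointSmallEtale ξ).toPresheafFiber_eq_iff' _ _ _ _).mp h1
  refine ⟨Y, g ≫ b.1, ⟨F.map (g ≫ a.1).op t, ?_⟩, y, ?_⟩
  · rw [NatTrans.naturality_apply]
    simpa using hg
  · rw [Functor.map_comp]
    exact (congrArg _ hy).trans b.2

theorem isLocallyInjective_of_stalk
    (hf : ∀ (Ω : Type u) [Field Ω] [IsSepClosed Ω] (ξ : Spec (CommRingCat.of Ω) ⟶ X),
      Function.Injective ((Scheme.pointSmallEtale ξ).presheafFiber.map f)) :
    Presheaf.IsLocallyInjective X.smallEtaleTopology f :=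
  isLocallyInjective_of_covers f covers_all fun Ω _ _ ξ _ => hf Ω ξ

theorem isLocallySurjective_of_stalk
    (hf : ∀ (Ω : Type u) [Field Ω] [IsSepClosed Ω] (ξ : Spec (CommRingCat.of Ω) ⟶ X),
      Function.Surjective ((Scheme.pointSmallEtale ξ).presheafFiber.map f)) :
    Presheaf.IsLocallySurjective X.smallEtaleTopology f :=
  isLocallySurjective_of_covers f covers_all fun Ω _ _ ξ _ => hf Ω ξ

end Groth.Agent.EtStalk
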